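import Groth.Agent.L18.BirBlow.Abstract
import Groth.Agent.L18.ProjSpaceUP
import Mathlib.AlgebraicGeometry.Morphisms.Flat
import Mathlib.AlgebraicGeometry.Morphisms.ClosedImmersion

/-!
# The charts of a closed subscheme of relative projective space
-/

set_option autoImplicit false
set_option backward.isDefEq.respectTransparency false
universe u

open CategoryTheory CategoryTheory.Limits AlgebraicGeometry TopologicalSpace Opposite

noncomputable section

namespace Groth.L18.BirBlow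

open Groth.L18.PUP (P D cc)

abbrev Zu : Type u := ULift.{u} ℤ

variable {N : ℕ}

theorem subring_eq_top_of_coord (k : Fin (N + 1))
    (S : Subring Γ(P N Zu.{u}, D (R := Zu.{u}) k)) (h : ∀ j, cc (R := Zu.{u}) k j ∈ S) : S = ⊤ := by
  refine eq_top_iff.2 fun x _ => ?_
  let hD := Groth.L18.PS.X_mem (R := Zu.{u}) N k
  let e := Proj.basicOpenIsoAway (CohB1.polyGrading N Zu.{u}) (MvPolynomial.X k) hD one_pos
  obtain ⟨q, rfl⟩ : ∃ q, (Proj.awayToSection (CohB1.polyGrading N Zu.{u}) (MvPolynomial.X k)).hom q = x := by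
    refine ⟨e.inv x, ?_⟩
    exact ConcreteCategory.congr_hom e.inv_hom_id x
  obtain ⟨p, rfl⟩ := Groth.L18.PS.exists_eq_eval_coord k q
  induction p using MvPolynomial.induction_on with
  | C r =>
    obtain ⟨m, rfl⟩ : ∃ m : ℤ, r = (m : Zu.{u}) := ⟨r.down, by
      apply ULift.ext; simp⟩
    rw [map_intCast, map_intCast, map_intCast]
    exact intCast_mem S m
  | add p q hp hq =>
    rw [map_add, map_add]
    exact S.add_mem (hp trivial) (hq trivial)
  | mul_X p j hp =>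
    rw [map_mul, map_mul, MvPolynomial.eval₂Hom_X']
    exact S.mul_mem (hp trivial) (h j)

variable {Z X : Scheme.{u}} {f : Z ⟶ X} (i : Z ⟶ CohB1.ProjSpaceOver N X)

/-- The map to projective space over the integers. -/
abbrev toPZ : Z ⟶ P N Zu.{u} := i ≫ pullback.fst (CohB1.ProjSpace.toSpec N Zu.{u}) (specULiftZIsTerminal.from X)

theorem subring_eq_top_over (k : Fin (N + 1)) (V : X.affineOpens) (U : (CohB1.ProjSpaceOver N X).Opens)
    (hU : U = pullback.fst (CohB1.ProjSpace.toSpec N Zu.{u}) (specULiftZIsTerminal.from X) ⁻¹ᵁ D k ⊓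
      CohB1.ProjSpaceOver.toBase N X ⁻¹ᵁ V.1)
    (S : Subring Γ(CohB1.ProjSpaceOver N X, U))
    (h₁ : ∀ a, (CohB1.ProjSpaceOver.toBase N X).appLE V.1 U (hU.le.trans inf_le_right) a ∈ S)
    (h₂ : ∀ j, Scheme.Hom.appLE (pullback.fst (CohB1.ProjSpace.toSpec N Zu.{u}) (specULiftZIsTerminal.from X))
      (D k) U (hU.le.trans inf_le_left) (cc k j) ∈ S) : IsAffineOpen U ∧ S = ⊤ := by
  have H : IsPullback (pullback.fst (CohB1.ProjSpace.toSpec N Zu.{u}) (specULiftZIsTerminal.from X))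
      (CohB1.ProjSpaceOver.toBase N X) (CohB1.ProjSpace.toSpec N Zu.{u}) (specULiftZIsTerminal.from X) :=
    IsPullback.of_hasPullback _ _
  have hT : V.1 ≤ specULiftZIsTerminal.from X ⁻¹ᵁ (⊤ : (Spec (CommRingCat.of Zu.{u})).Opens) := le_top
  have hX : D (R := Zu.{u}) k ≤ CohB1.ProjSpace.toSpec N Zu.{u} ⁻¹ᵁ
      (⊤ : (Spec (CommRingCat.of Zu.{u})).Opens) := le_top
  have hDa : IsAffineOpen (D (R := Zu.{u}) k) :=
    Proj.isAffineOpen_basicOpen _ _ (Groth.L18.PS.X_mem N k) one_pos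
  haveI : IsAffine (D (R := Zu.{u}) k).toScheme := hDa
  haveI : IsAffine V.1.toScheme := V.2
  haveI : IsAffine (⊤ : (Spec (CommRingCat.of Zu.{u})).Opens).toScheme := isAffineOpen_top _
  refine ⟨.of_isIso (Scheme.Hom.isPullback_resLE H hT hX hU).isoPullback.hom, ?_⟩
  haveI := isIso_pushoutSection_of_isAffineOpen H hT hX hU (isAffineOpen_top _) V.2 hDa
  have hpo := (isIso_pushoutSection_iff H hT hX hU).1 this
  have hD : ∀ x, Scheme.Hom.appLE (pullback.fst (CohB1.ProjSpace.toSpec N Zu.{u}) (specULiftZIsTerminal.from X))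
      (D k) U (hU.le.trans inf_le_left) x ∈ S := fun x => by
    have := subring_eq_top_of_coord k (S.comap (Scheme.Hom.appLE
      (pullback.fst (CohB1.ProjSpace.toSpec N Zu.{u}) (specULiftZIsTerminal.from X))
      (D k) U (hU.le.trans inf_le_left)).hom) h₂
    exact this.ge (Subring.mem_top x)
  let α : Γ(P N Zu.{u}, D k) ⟶ CommRingCat.of S := CommRingCat.ofHom (RingHom.codRestrict _ S hD)
  let β : Γ(X, V.1) ⟶ CommRingCat.of S := CommRingCat.ofHom
    (RingHom.codRestrict ((CohB1.ProjSpaceOver.toBase N X).appLE V.1 U (hU.le.trans inf_le_right)).hom S h₁)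
  have hcomm := hpo.w
  have hw : Scheme.Hom.appLE (CohB1.ProjSpace.toSpec N Zu.{u}) ⊤ (D k) hX ≫ α =
      Scheme.Hom.appLE (specULiftZIsTerminal.from X) ⊤ V.1 hT ≫ β :=
    CommRingCat.hom_ext (RingHom.ext fun a => Subtype.ext (ConcreteCategory.congr_hom hcomm a))
  have hid : hpo.desc α β hw ≫ CommRingCat.ofHom S.subtype = 𝟙 _ := by
    refine hpo.hom_ext ?_ ?_
    · rw [← Category.assoc, hpo.inl_desc, Category.comp_id]; rfl
    · rw [← Category.assoc, hpo.inr_desc, Category.comp_id]; rfl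
  refine eq_top_iff.2 fun x _ => ?_
  have hx : ((hpo.desc α β hw) x : Γ(CohB1.ProjSpaceOver N X, U)) = x := ConcreteCategory.congr_hom hid x
  rw [← hx]
  exact ((hpo.desc α β hw) x).2

variable [IsClosedImmersion i] (hi : i ≫ CohB1.ProjSpaceOver.toBase N X = f)

/-- The charts of `Z`. -/
def chartData : ChartData f (Fin (N + 1)) where
  Zc k := toPZ i ⁻¹ᵁ D k
  cover z := by
    obtain ⟨k, hk⟩ := Opens.mem_iSup.1
      ((Groth.L18.PS.iSup_chart (n := N) (R := Zu.{u})).ge (trivial : toPZ i z ∈ (⊤ : (P N Zu.{u}).Opens)))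
    exact ⟨k, hk⟩
  y k j := (toPZ i).app (D k) (cc k j)
  basicOpen_y k j := by
    rw [← Scheme.preimage_basicOpen]
    exact fun z hz => Groth.L18.PUP.basicOpen_cc k j hz
  affine k V := by
    subst hi
    have h := (subring_eq_top_over k V _ rfl ⊤ (fun _ => trivial) (fun _ => trivial)).1.preimage i
    exact h
  gen k V S h₁ h₂ := by
    subst hi
    obtain ⟨hU, -⟩ := subring_eq_top_over (N := N) k V _ rfl ⊤ (fun _ => trivial) (fun _ => trivial)
    set U : (CohB1.ProjSpaceOver N X).Opens :=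
      pullback.fst (CohB1.ProjSpace.toSpec N Zu.{u}) (specULiftZIsTerminal.from X) ⁻¹ᵁ D k ⊓
        CohB1.ProjSpaceOver.toBase N X ⁻¹ᵁ V.1
    have hWU : toPZ i ⁻¹ᵁ D k ⊓ (i ≫ CohB1.ProjSpaceOver.toBase N X) ⁻¹ᵁ V.1 ≤ i ⁻¹ᵁ U := fun _ h => h
    let ψ : Γ(CohB1.ProjSpaceOver N X, U) →+*
        Γ(Z, toPZ i ⁻¹ᵁ D k ⊓ (i ≫ CohB1.ProjSpaceOver.toBase N X) ⁻¹ᵁ V.1) := (i.appLE U _ hWU).hom
    have hsurj : Function.Surjective ψ := by
      have := i.app_surjective U hU
      rw [Scheme.Hom.app_eq_appLE] at this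
      exact this
    refine eq_top_iff.2 fun x _ => ?_
    obtain ⟨w, rfl⟩ := hsurj x
    have hc := (subring_eq_top_over (N := N) k V U rfl (S.comap ψ) (fun a => ?_) fun j => ?_).2
    · exact hc.ge (Subring.mem_top w)
    · show ψ _ ∈ S
      have e := Scheme.Hom.appLE_comp_appLE i (CohB1.ProjSpaceOver.toBase N X) V.1 U _
        (inf_le_right : U ≤ _) hWU
      exact (ConcreteCategory.congr_hom e a).symm ▸ h₁ a
    · show ψ _ ∈ S
      have e := Scheme.Hom.appLE_comp_appLE i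
        (pullback.fst (CohB1.ProjSpace.toSpec N Zu.{u}) (specULiftZIsTerminal.from X)) (D k) U _
        (inf_le_left : U ≤ _) hWU
      have hj := h₂ j
      rw [Scheme.Hom.app_eq_appLE, appLE_res] at hj
      exact (ConcreteCategory.congr_hom e (cc k j)).symm ▸ hj

theorem chartData_Zc (k : Fin (N + 1)) : (chartData i hi).Zc k = toPZ i ⁻¹ᵁ D k := rfl

theorem cc_mul_cc (a b c : Fin (N + 1)) :
    (P N Zu.{u}).presheaf.map (homOfLE (inf_le_left : D a ⊓ D b ≤ D a)).op (cc a b) *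
      (P N Zu.{u}).presheaf.map (homOfLE (inf_le_right : D a ⊓ D b ≤ D b)).op (cc b c) =
    (P N Zu.{u}).presheaf.map (homOfLE (inf_le_left : D a ⊓ D b ≤ D a)).op (cc a c) := by
  let O := Groth.L18.PUP.O1 N Zu.{u}
  have hF := (Groth.L18.PUP.T_frame (n := N) (R := Zu.{u}) a).mono (inf_le_left : D a ⊓ D b ≤ D a)
  refine hF.inj le_rfl ?_
  rw [Groth.L18.Frame.rs_self]
  have hb := congrArg (Groth.L18.Frame.rs O (inf_le_left : D a ⊓ D b ≤ D a)) (Groth.L18.PUP.cc_smul (R := Zu.{u}) a b)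
  have hc := congrArg (Groth.L18.Frame.rs O (inf_le_left : D a ⊓ D b ≤ D a)) (Groth.L18.PUP.cc_smul (R := Zu.{u}) a c)
  have hbc := congrArg (Groth.L18.Frame.rs O (inf_le_right : D a ⊓ D b ≤ D b)) (Groth.L18.PUP.cc_smul (R := Zu.{u}) b c)
  simp only [O, Groth.L18.Frame.rs_smul, Groth.L18.Frame.rs_rs, Groth.L18.Frame.ro] at hb hc hbc ⊢
  rw [mul_comm, mul_smul, hb, hbc, hc]

theorem cc_self (a : Fin (N + 1)) : cc (R := Zu.{u}) a a = 1 := by
  rw [cc, Groth.L18.PS.coord_self, map_one]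

theorem y_mul_y (a b c : Fin (N + 1)) {O : Z.Opens} (ha : O ≤ (chartData i hi).Zc a)
    (hb : O ≤ (chartData i hi).Zc b) :
    Z.presheaf.map (homOfLE ha).op ((chartData i hi).y a b) * Z.presheaf.map (homOfLE hb).op ((chartData i hi).y b c) =
      Z.presheaf.map (homOfLE ha).op ((chartData i hi).y a c) := by
  have hO : O ≤ toPZ i ⁻¹ᵁ (D a ⊓ D b) := fun z hz => ⟨ha hz, hb hz⟩
  have h := congrArg ((toPZ i).appLE (D a ⊓ D b) O hO) (cc_mul_cc (N := N) a b c)
  rw [map_mul, ← CommRingCat.comp_apply, ← CommRingCat.comp_apply, ← CommRingCat.comp_apply,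
    Scheme.Hom.map_appLE, Scheme.Hom.map_appLE] at h
  exact h

theorem y_self (a : Fin (N + 1)) : (chartData i hi).y a a = 1 := by
  show (toPZ i).app (D a) (cc a a) = 1
  rw [cc_self, map_one]

end Groth.L18.BirBlow
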