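import Groth.Agent.L18.AmpleAvoid
import Groth.Agent.L21.Mero.SpanSheaf
import Mathlib.AlgebraicGeometry.FunctionField

/-!
# Common denominators of rational functions on an integral scheme with an ample module
-/

set_option autoImplicit false
set_option backward.isDefEq.respectTransparency false
universe u

open CategoryTheory AlgebraicGeometry TopologicalSpace Opposite

noncomputable section

namespace Groth.L18.BirBlow

open Groth.L18.Frame (rs ro rs_rs rs_self rs_smul ro_ro IsFrame)
open Groth.L18.GenLoc (secOf genLocus_inf_eq)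

variable {X : Scheme.{u}} [IsIntegral X]

theorem genMem {W : X.Opens} {z : X} (hz : z ∈ W) : genericPoint X ∈ W :=
  ((genericPoint_spec X).specializes trivial).mem_open W.2 hz

/-- Evaluation at the generic point. -/
def ev {W : X.Opens} (h : genericPoint X ∈ W) : Γ(X, W) →+* X.functionField :=
  (X.presheaf.germ W (genericPoint X) h).hom

theorem ev_injective {W : X.Opens} (h : genericPoint X ∈ W) : Function.Injective (ev h) :=
  germ_injective_of_isIntegral X _ h

theorem ev_res {W W' : X.Opens} (hle : W' ≤ W) (h : genericPoint X ∈ W') (a : Γ(X, W)) :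
    ev h (X.presheaf.map (homOfLE hle).op a) = ev (hle h) a :=
  TopCat.Presheaf.germ_res_apply _ _ _ _ _

theorem algebraMap_germ {W : X.Opens} {z : X} (hz : z ∈ W) (a : Γ(X, W)) :
    algebraMap (X.presheaf.stalk z) X.functionField (X.presheaf.germ W z hz a) = ev (genMem hz) a := by
  exact TopCat.Presheaf.germ_stalkSpecializes_apply X.presheaf hz ((genericPoint_spec X).specializes trivial) a

/-- `c` clears the denominators of `r` on `W`. -/
def Clears {ι : Type*} (r : ι → X.functionField) (δ : X → X.functionField) (W : X.Opens) : Prop :=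
  ∃ c : Γ(X, W), c ≠ 0 ∧ (∀ (z : X) (hz : z ∈ W), Submodule.span (X.presheaf.stalk z) {δ z} =
      Submodule.span (X.presheaf.stalk z) {ev (genMem hz) c}) ∧
    ∀ (j : ι) (h : genericPoint X ∈ W), ∃ g : Γ(X, W), ev h g = ev h c * r j

theorem exists_regular_open {ι : Type*} [Finite ι] (r : ι → X.functionField) :
    ∃ (W₀ : X.Opens) (h : genericPoint X ∈ W₀), ∀ j, ∃ a : Γ(X, W₀), ev h a = r j := by
  have h1 : ∀ j, ∃ (U : X.Opens) (h : genericPoint X ∈ U) (a : Γ(X, U)), ev h a = r j := fun j =>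
    TopCat.Presheaf.exists_germ_eq X.presheaf (r j)
  choose U hU a ha using h1
  cases nonempty_fintype ι
  let W₀ : X.Opens := Finset.univ.inf U
  have hmem : genericPoint X ∈ W₀ := by
    refine Finset.inf_induction (p := fun V : X.Opens => genericPoint X ∈ V) trivial
      (fun _ h₁ _ h₂ => ⟨h₁, h₂⟩) fun j _ => hU j
  exact ⟨W₀, hmem, fun j => ⟨X.presheaf.map (homOfLE (Finset.inf_le (Finset.mem_univ j) : W₀ ≤ U j)).op (a j),
    (ev_res _ hmem (a j)).trans (ha j)⟩⟩

/-- A Cartier divisor clearing the denominators of finitely many rational functions. -/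
theorem exists_clears {ι : Type*} [Finite ι] (M : X.Modules) (hM : CohB1.IsAmple M)
    (r : ι → X.functionField) :
    ∃ δ : X → X.functionField, ∀ x : X, ∃ W : X.affineOpens, x ∈ W.1 ∧ Clears r δ W.1 := by
  classical
  haveI : CompactSpace X := hM.2.1
  obtain ⟨W₀, hη₀, hr⟩ := exists_regular_open r
  choose a ha using hr
  obtain ⟨n, s, hsη, hsW, -⟩ := Groth.L18.Ample.exists_pow_genLocus_of_isAmple hM {genericPoint X}
    (Set.finite_singleton _) W₀ (fun _ h => h ▸ hη₀)
  set G := CohB1.genLocus _ s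
  have hηG : genericPoint X ∈ G := hsη rfl
  have hL := Groth.L18.Ample.isInvertible_tensorPow hM.1 (n + 1)
  have hfr : ∀ x : X, ∃ (W : X.affineOpens) (e : Γ(CohB1.tensorPow M (n + 1), W.1)) (c : Γ(X, W.1)),
      x ∈ W.1 ∧ IsFrame _ W.1 e ∧ c • e = rs _ le_top (secOf s) := fun x => by
    obtain ⟨W', e, hxW, he⟩ := Groth.L18.Frame.exists_frame hL x
    obtain ⟨V, hV, hxV, hVW⟩ := exists_isAffineOpen_mem_and_subset hxW
    obtain ⟨c, hc⟩ := (he.mono (hVW : V ≤ W')).exists_coeff le_rfl (rs _ le_top (secOf s))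
    rw [rs_self] at hc
    exact ⟨⟨V, hV⟩, rs _ hVW e, c, hxV, he.mono hVW, hc⟩
  choose W e c hxW he hc using hfr
  have hbo : ∀ x, G ⊓ (W x).1 = X.basicOpen (c x) := fun x => genLocus_inf_eq s (he x) (hc x)
  have hbη : ∀ x, genericPoint X ∈ X.basicOpen (c x) := fun x =>
    (hbo x).le ⟨hηG, genMem (hxW x)⟩
  have hpow : ∀ x j, ∃ (m : ℕ) (g : Γ(X, (W x).1)), ev (genMem (hxW x)) g =
      ev (genMem (hxW x)) (c x) ^ m * r j := fun x j => by
    have hle : X.basicOpen (c x) ≤ W₀ := (hbo x).ge.trans (inf_le_left.trans hsW)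
    obtain ⟨m, g, hg⟩ := exists_eq_pow_mul_of_isAffineOpen X (W x).1 (W x).2 (c x)
      (X.presheaf.map (homOfLE hle).op (a j))
    refine ⟨m, g, ?_⟩
    have h1 := congrArg (ev (hbη x)) hg
    dsimp only [TopCat.Presheaf.restrictOpenCommRingCat_apply] at h1
    rw [map_mul, map_pow, ev_res, ev_res, ev_res, ha] at h1
    exact h1
  choose m g hg using hpow
  obtain ⟨T, hT⟩ := isCompact_univ.elim_finite_subcover (fun x : X => ((W x).1 : Set X)) (fun x => (W x).1.2)
    (fun x _ => Set.mem_iUnion.2 ⟨x, hxW x⟩)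
  cases nonempty_fintype ι
  set K : ℕ := T.sup fun x => Finset.univ.sup (m x)
  refine ⟨fun z => ev (genMem (hxW z)) (c z) ^ K, fun x => ?_⟩
  obtain ⟨y, hyT, hxy⟩ := Set.mem_iUnion₂.1 (hT (Set.mem_univ x))
  have hc0 : c y ^ K ≠ 0 := by
    intro h
    have h1 := congrArg (ev (genMem (hxW y))) h
    rw [map_pow, map_zero] at h1
    have h2 : IsUnit (ev (genMem (hxW y)) (c y)) := (X.mem_basicOpen (c y) _ (genMem (hxW y))).1 (hbη y)
    exact (h2.pow K).ne_zero h1
  refine ⟨W y, hxy, c y ^ K, hc0, fun z hz => ?_, fun j h => ?_⟩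
  · set O := (W z).1 ⊓ (W y).1
    have hzO : z ∈ O := ⟨hxW z, hz⟩
    have h1 := (he z).mono (inf_le_left : O ≤ (W z).1)
    have h2 := (he y).mono (inf_le_right : O ≤ (W y).1)
    obtain ⟨u, hu⟩ := h2.exists_coeff le_rfl (rs _ (inf_le_left : O ≤ (W z).1) (e z))
    rw [rs_self] at hu
    have hu' : IsUnit u := Groth.L18.Frame.isUnit_of_isFrame h2 (hu.symm ▸ h1)
    have e1 := congrArg (rs (CohB1.tensorPow M (n + 1)) (inf_le_left : O ≤ (W z).1)) (hc z)
    have e2 := congrArg (rs (CohB1.tensorPow M (n + 1)) (inf_le_right : O ≤ (W y).1)) (hc y)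
    rw [rs_smul, rs_rs, ← hu, smul_smul] at e1
    rw [rs_smul, rs_rs, ← e1] at e2
    have h3 : X.presheaf.map (homOfLE (inf_le_right : O ≤ (W y).1)).op (c y) =
        X.presheaf.map (homOfLE (inf_le_left : O ≤ (W z).1)).op (c z) * u :=
      h2.inj le_rfl (by rw [rs_self]; exact e2)
    have h4 := congrArg (ev (genMem hzO)) h3
    rw [map_mul, ev_res, ev_res, ← algebraMap_germ hzO u] at h4
    rw [map_pow, h4, mul_pow, ← map_pow (algebraMap (X.presheaf.stalk z) X.functionField), mul_comm,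
      ← Algebra.smul_def]
    exact (Submodule.span_singleton_smul_eq ((hu'.map (X.presheaf.germ O z hzO).hom).pow K) _).symm
  · obtain ⟨d, hd⟩ := Nat.exists_eq_add_of_le
      ((Finset.le_sup (Finset.mem_univ j)).trans (Finset.le_sup (f := fun x => Finset.univ.sup (m x)) hyT) :
        m y j ≤ K)
    refine ⟨c y ^ d * g y j, ?_⟩
    rw [hd, map_mul, map_pow, map_pow, pow_add, hg]
    ring

variable {ι : Type} (r : ι → X.functionField) (δ : X → X.functionField)

/-- The ideals `δ · r_j`. -/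
def germs (j : ι) (z : X) : Ideal (X.presheaf.stalk z) :=
  (Submodule.span (X.presheaf.stalk z) {δ z * r j}).comap (Algebra.linearMap _ X.functionField)

variable {r δ}

theorem germs_eq {W : X.Opens} {c g : Γ(X, W)} {z : X} (hz : z ∈ W)
    (hδ : Submodule.span (X.presheaf.stalk z) {δ z} = Submodule.span (X.presheaf.stalk z) {ev (genMem hz) c})
    {j : ι} (hg : ev (genMem hz) g = ev (genMem hz) c * r j) :
    germs r δ j z = Ideal.span {X.presheaf.germ W z hz g} := by
  have h1 : Submodule.span (X.presheaf.stalk z) {δ z * r j} =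
      Submodule.span (X.presheaf.stalk z) {ev (genMem hz) g} := by
    rw [hg]
    have key := congrArg (Submodule.map (LinearMap.mulRight (X.presheaf.stalk z) (r j))) hδ
    rwa [Submodule.map_span, Submodule.map_span, Set.image_singleton, Set.image_singleton,
      LinearMap.mulRight_apply, LinearMap.mulRight_apply] at key
  ext x
  rw [germs, Submodule.mem_comap, Algebra.linearMap_apply, h1, Submodule.mem_span_singleton,
    Ideal.mem_span_singleton', ← algebraMap_germ hz g]
  constructor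
  · rintro ⟨t, ht⟩
    exact ⟨t, IsFractionRing.injective (X.presheaf.stalk z) X.functionField (by rw [map_mul, ← ht, Algebra.smul_def])⟩
  · rintro ⟨t, rfl⟩
    exact ⟨t, by rw [map_mul, Algebra.smul_def]⟩

theorem regSub_of_ne_zero {W : X.Opens} {g : Γ(X, W)} (hg : g ≠ 0) : g ∈ _root_.Mero.regSub X W := fun z =>
  mem_nonZeroDivisors_of_ne_zero fun h => hg (germ_injective_of_isIntegral X z.1 z.2 (h.trans (map_zero _).symm))

theorem exists_ideal [Fintype ι] (hδ : ∀ x : X, ∃ W : X.affineOpens, x ∈ W.1 ∧ Clears r δ W.1) :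
    ∃ I : X.IdealSheafData, ∀ x : X, ∃ W : X.affineOpens, x ∈ W.1 ∧ ∃ (c : Γ(X, W.1)) (g : ι → Γ(X, W.1)),
      c ≠ 0 ∧ (∀ j h, ev h (g j) = ev h c * r j) ∧ I.ideal W = Ideal.span (Set.range g) := by
  have hloc : ∀ j : {j : ι // r j ≠ 0}, Groth.L21.Mero.LocPrincipal (germs r δ j.1) := fun j y => by
    obtain ⟨W, hyW, c, hc, hcz, hg⟩ := hδ y
    obtain ⟨g, hg⟩ := hg j.1 (genMem hyW)
    have hg0 : g ≠ 0 := fun h => by
      rw [h, map_zero, eq_comm, mul_eq_zero] at hg
      exact hg.elim (fun h' => hc (ev_injective _ (h'.trans (map_zero _).symm))) j.2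
    exact ⟨W, hyW, ⟨g, regSub_of_ne_zero hg0⟩, fun z => germs_eq z.2 (hcz z.1 z.2) hg⟩
  refine ⟨⨆ j : {j : ι // r j ≠ 0}, Groth.L21.Mero.spanSheaf (hloc j), fun x => ?_⟩
  obtain ⟨W, hxW, c, hc, hcz, hg⟩ := hδ x
  choose g hg using fun j => hg j (genMem hxW)
  refine ⟨W, hxW, c, g, hc, fun j _ => hg j, ?_⟩
  rw [Scheme.IdealSheafData.ideal_iSup, iSup_apply]
  have hI : ∀ j : {j : ι // r j ≠ 0}, (Groth.L21.Mero.spanSheaf (hloc j)).ideal W = Ideal.span {g j.1} := fun j => by
    have hg0 : g j.1 ≠ 0 := fun h => by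
      have := hg j.1
      rw [h, map_zero, eq_comm, mul_eq_zero] at this
      exact this.elim (fun h' => hc (ev_injective _ (h'.trans (map_zero _).symm))) j.2
    exact Groth.L21.Mero.germIdeal_eq_span ⟨g j.1, regSub_of_ne_zero hg0⟩
      fun z => germs_eq z.2 (hcz z.1 z.2) (hg j.1)
  simp only [hI]
  refine le_antisymm (iSup_le fun j => Ideal.span_mono (Set.singleton_subset_iff.2 ⟨j.1, rfl⟩)) (Ideal.span_le.2 ?_)
  rintro _ ⟨j, rfl⟩
  by_cases hj : r j = 0
  · have : g j = 0 := ev_injective (genMem hxW) (by rw [hg, hj, mul_zero, map_zero])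
    rw [this]
    exact zero_mem _
  · exact le_iSup (fun j : {j : ι // r j ≠ 0} => Ideal.span {g j.1}) ⟨j, hj⟩ (Ideal.mem_span_singleton_self _)

end Groth.L18.BirBlow
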