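import Groth.Agent.L18.BirBlow.Charts
import Groth.Agent.L18.BirBlow.Denom

/-!
# A projective birational morphism of integral schemes is a blow-up
-/

set_option autoImplicit false
set_option backward.isDefEq.respectTransparency false
universe u

open CategoryTheory CategoryTheory.Limits AlgebraicGeometry TopologicalSpace Opposite

noncomputable section

namespace Groth.L18.BirBlow

theorem bijective_stalkSpecializes {X : Scheme.{u}} {a b : X} (e : a = b) (h : a ⤳ b) :
    Function.Bijective (X.presheaf.stalkSpecializes h) := by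
  subst e
  rw [TopCat.Presheaf.stalkSpecializes_refl]
  exact Function.bijective_id

theorem exists_isBlowUp {Z X : Scheme.{u}} [IsIntegral Z] [IsIntegral X] (M : X.Modules) (hM : CohB1.IsAmple M)
    (f : Z ⟶ X) (N : ℕ) (i : Z ⟶ CohB1.ProjSpaceOver N X) [IsClosedImmersion i]
    (hi : i ≫ CohB1.ProjSpaceOver.toBase N X = f)
    (hgen : f (genericPoint Z) = genericPoint X)
    (hsurj : Function.Surjective (f.stalkMap (genericPoint Z))) :
    ∃ I : X.IdealSheafData, BlowUp.IsBlowUp f I := by
  let D := chartData i hi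
  have hspec : f (genericPoint Z) ⤳ genericPoint X := hgen ▸ specializes_rfl
  let ψ : X.functionField →+* Z.functionField :=
    (f.stalkMap (genericPoint Z)).hom.comp (X.presheaf.stalkSpecializes hspec).hom
  have hψs : Function.Surjective ψ := hsurj.comp (bijective_stalkSpecializes hgen hspec).2
  have hψi : Function.Injective ψ := ψ.injective
  have hψ : ∀ (V : X.Opens) (W : Z.Opens) (e : W ≤ f ⁻¹ᵁ V) (hW : genericPoint Z ∈ W)
      (hV : genericPoint X ∈ V) (a : Γ(X, V)), ψ (ev hV a) = ev hW (f.appLE V W e a) := by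
    intro V W e hW hV a
    show f.stalkMap _ (X.presheaf.stalkSpecializes hspec (X.presheaf.germ V _ hV a)) =
      Z.presheaf.germ W _ hW (f.appLE V W e a)
    rw [TopCat.Presheaf.germ_stalkSpecializes_apply, Scheme.Hom.germ_stalkMap_apply, Scheme.Hom.appLE,
      CommRingCat.comp_apply, TopCat.Presheaf.germ_res_apply]
  obtain ⟨k₀, hk₀⟩ := D.cover (genericPoint Z)
  choose r hr using fun j => hψs (ev hk₀ (D.y k₀ j))
  obtain ⟨δ, hδ⟩ := exists_clears M hM r
  obtain ⟨I, hI⟩ := exists_ideal hδ
  have hr0 : r k₀ = 1 := hψi (by rw [hr, show D.y k₀ k₀ = 1 from y_self i hi k₀, map_one, map_one])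
  refine ⟨I, isBlowUp D I (fun x => ?_) fun V W e hW => ?_⟩
  · obtain ⟨V, hxV, c, g, hc, hg, hspan⟩ := hI x
    have hηV := genMem hxV
    have hηf : genericPoint Z ∈ f ⁻¹ᵁ V.1 := by
      show f (genericPoint Z) ∈ V.1
      rw [hgen]
      exact hηV
    refine ⟨V, hxV, ⟨⟨g, hspan, fun k j => ?_, ⟨k₀, fun h => hc (ev_injective hηV ?_)⟩, fun k hk => ?_⟩⟩⟩
    · by_cases hne : ((D.W k V : Z.Opens) : Set Z).Nonempty
      · obtain ⟨z, hz⟩ := hne
        have hηW : genericPoint Z ∈ D.W k V := genMem hz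
        refine ev_injective hηW ?_
        rw [map_mul, ← hψ _ _ inf_le_right hηW hηV, ← hψ _ _ inf_le_right hηW hηV, hg j hηV, hg k hηV,
          map_mul, map_mul, hr, hr, ev_res]
        have hcc := congrArg (ev (W := D.Zc k₀ ⊓ D.Zc k) ⟨hk₀, hηW.1⟩) (y_mul_y i hi k₀ k j
          (inf_le_left : D.Zc k₀ ⊓ D.Zc k ≤ D.Zc k₀) inf_le_right)
        rw [map_mul, ev_res, ev_res, ev_res] at hcc
        rw [← hcc]
        ring
      · exact TopCat.Presheaf.section_ext Z.sheaf _ _ _ fun z hz => absurd ⟨z, hz⟩ hne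
    · have h1 := hg k₀ hηV
      rw [h, hr0, mul_one] at h1
      exact h1.symm
    · refine ⟨genericPoint Z, ?_, hηf⟩
      have hrk : r k ≠ 0 := fun h => hk (ev_injective hηV (by rw [hg k hηV, h, mul_zero, map_zero]))
      have hu : IsUnit (ev hk₀ (D.y k₀ k)) := by
        rw [isUnit_iff_ne_zero, ← hr]
        exact (map_ne_zero ψ).2 hrk
      exact D.basicOpen_y k₀ k ((Z.mem_basicOpen _ _ hk₀).2 hu)
  · obtain ⟨z, hz⟩ := hW
    have hηW : genericPoint Z ∈ W := genMem hz
    have hηV : genericPoint X ∈ V.1 := hgen ▸ e hηW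
    intro a b hab
    refine ev_injective hηV (hψi ?_)
    rw [hψ V.1 W e hηW hηV, hψ V.1 W e hηW hηV, hab]

/-- Birationality from an isomorphism over a nonempty open. -/
theorem birational_of_isIso_restrict {Z X : Scheme.{u}} [IsIntegral Z] [IsIntegral X] (f : Z ⟶ X)
    (hbir : ∃ U : X.Opens, (U : Set X).Nonempty ∧ IsIso (f ∣_ U)) :
    f (genericPoint Z) = genericPoint X ∧ Function.Surjective (f.stalkMap (genericPoint Z)) := by
  obtain ⟨U, hU, hiso⟩ := hbir
  have himage : (U : Set X) ⊆ Set.range f := by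
    intro x hx
    obtain ⟨z, hz⟩ := (f ∣_ U).surjective ⟨x, hx⟩
    exact ⟨z.1, (morphismRestrict_base_coe f U z).symm.trans (congrArg Subtype.val hz)⟩
  obtain ⟨x, hx⟩ := hU
  obtain ⟨z, hz⟩ := himage hx
  have hηZ : genericPoint Z ∈ f ⁻¹ᵁ U := genMem (show z ∈ f ⁻¹ᵁ U by show f z ∈ U; rw [hz]; exact hx)
  refine ⟨?_, ?_⟩
  · have h1 : IsGenericPoint (f (genericPoint Z)) (⊤ : Set X) := by
      refine Set.eq_univ_of_univ_subset ?_
      calc (Set.univ : Set X) = closure (U : Set X) := (U.2.dense ⟨x, hx⟩).closure_eq.symm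
        _ ⊆ closure (Set.range f) := closure_mono himage
        _ ⊆ closure {f (genericPoint Z)} := by
          refine closure_minimal ?_ isClosed_closure
          rintro _ ⟨w, rfl⟩
          exact specializes_iff_mem_closure.1 (((genericPoint_spec Z).specializes trivial).map f.continuous)
    exact h1.eq (genericPoint_spec X)
  · have h : (MorphismProperty.isomorphisms CommRingCat.{u})
        ((f ∣_ U).stalkMap ⟨genericPoint Z, hηZ⟩) := inferInstanceAs (IsIso _)
    have h' := ((MorphismProperty.isomorphisms CommRingCat.{u}).arrow_mk_iso_iff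
      (morphismRestrictStalkMap f U ⟨genericPoint Z, hηZ⟩)).1 h
    haveI : IsIso (f.stalkMap (genericPoint Z)) := h'
    exact (ConcreteCategory.bijective_of_isIso (f.stalkMap (genericPoint Z))).2

end Groth.L18.BirBlow
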